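import Mathlib.LinearAlgebra.SymmetricAlgebra.Basic
import Mathlib.RingTheory.Extension.Cotangent.Basic
import Mathlib.LinearAlgebra.TensorProduct.Tower

/-! # The conormal module of a symmetric algebra -/

set_option autoImplicit false
set_option maxHeartbeats 1000000
set_option backward.isDefEq.respectTransparency false
universe u

open TensorProduct MvPolynomial Algebra

namespace GrothLib.SymPres6

variable {A : Type u} [CommRing A] {M : Type u} [AddCommGroup M] [Module A M] {m : ℕ} (x : Fin m → M)
  (G : Generators A (SymmetricAlgebra A M) (Fin m))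

/-- The linear form of a vector. -/
noncomputable def form : (Fin m → A) →ₗ[A] MvPolynomial (Fin m) A :=
  Fintype.linearCombination A fun j => (X j : MvPolynomial (Fin m) A)

theorem form_eq (k : Fin m → A) : form k = ∑ j, C (k j) * X j := by
  simp [form, Fintype.linearCombination_apply, smul_eq_C_mul]

variable (hG : ∀ j, G.val j = SymmetricAlgebra.ι A M (x j))
include hG

theorem aeval_form (k : Fin m → A) :
    aeval G.val (form k) = SymmetricAlgebra.ι A M (Fintype.linearCombination A x k) := by
  simp [form, Fintype.linearCombination_apply, hG]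

theorem form_mem (k : LinearMap.ker (Fintype.linearCombination A x)) :
    form (k : Fin m → A) ∈ G.toExtension.ker := by
  rw [show G.toExtension.ker = RingHom.ker (aeval G.val) from G.ker_eq_ker_aeval_val, RingHom.mem_ker,
    aeval_form x G hG, LinearMap.mem_ker.1 k.2, map_zero]

theorem ker_le (hx : Function.Surjective (Fintype.linearCombination A x)) :
    G.toExtension.ker ≤ Ideal.span (Set.range fun k : LinearMap.ker (Fintype.linearCombination A x) =>
      form (k : Fin m → A)) := by
  let I : Ideal (MvPolynomial (Fin m) A) := Ideal.span (Set.range fun k : LinearMap.ker (Fintype.linearCombination A x) =>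
    form (k : Fin m → A))
  let φ : (Fin m → A) →ₗ[A] MvPolynomial (Fin m) A ⧸ I :=
    (Ideal.Quotient.mkₐ A I).toLinearMap.comp form
  have hφ : LinearMap.ker (Fintype.linearCombination A x) ≤ LinearMap.ker φ := fun k hk =>
    Ideal.Quotient.eq_zero_iff_mem.2 (Ideal.subset_span ⟨⟨k, hk⟩, rfl⟩)
  let φ' : M →ₗ[A] MvPolynomial (Fin m) A ⧸ I :=
    ((LinearMap.ker (Fintype.linearCombination A x)).liftQ φ hφ).comp
      (LinearMap.quotKerEquivOfSurjective _ hx).symm.toLinearMap
  have hφ' : ∀ j, φ' (x j) = Ideal.Quotient.mk I (X j) := fun j => by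
    have hxj : x j = Fintype.linearCombination A x (Pi.single j 1) := by simp
    have : (LinearMap.quotKerEquivOfSurjective _ hx).symm (x j) = Submodule.Quotient.mk (Pi.single j 1) := by
      rw [LinearEquiv.symm_apply_eq, LinearMap.quotKerEquivOfSurjective_apply_mk, ← hxj]
    show (LinearMap.ker (Fintype.linearCombination A x)).liftQ φ hφ
      ((LinearMap.quotKerEquivOfSurjective _ hx).symm (x j)) = _
    rw [this, Submodule.liftQ_apply]
    simp [φ, form, Ideal.Quotient.mkₐ_eq_mk]
  let L : SymmetricAlgebra A M →ₐ[A] MvPolynomial (Fin m) A ⧸ I := SymmetricAlgebra.lift φ'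
  have hL : L.comp (aeval G.val) = Ideal.Quotient.mkₐ A I := MvPolynomial.algHom_ext fun j => by
    rw [AlgHom.comp_apply, aeval_X, hG, SymmetricAlgebra.lift_ι_apply, hφ']
    rfl
  intro p hp
  rw [show G.toExtension.ker = RingHom.ker (aeval G.val) from G.ker_eq_ker_aeval_val, RingHom.mem_ker] at hp
  refine Ideal.Quotient.eq_zero_iff_mem.1 ((DFunLike.congr_fun hL p).symm.trans ?_)
  show L (aeval G.val p) = 0
  exact (congrArg L hp).trans (map_zero L)

/-- The linear map on relations. -/
noncomputable def relMap : LinearMap.ker (Fintype.linearCombination A x) →ₗ[A] G.toExtension.Cotangent :=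
  (Extension.Cotangent.mk.restrictScalars A).comp
    (LinearMap.codRestrict (G.toExtension.ker.restrictScalars A) (form.comp (Submodule.subtype _)) (form_mem x G hG))

/-- The comparison map. -/
noncomputable def cmp : SymmetricAlgebra A M ⊗[A] LinearMap.ker (Fintype.linearCombination A x)
    →ₗ[SymmetricAlgebra A M] G.toExtension.Cotangent :=
  (relMap x G hG).liftBaseChange (SymmetricAlgebra A M)

theorem cmp_tmul (k : LinearMap.ker (Fintype.linearCombination A x))
    (hk : (∑ j, C ((k : Fin m → A) j) * X j : MvPolynomial (Fin m) A) ∈ G.toExtension.ker) :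
    cmp x G hG (1 ⊗ₜ k) = Extension.Cotangent.mk ⟨_, hk⟩ := by
  rw [cmp, LinearMap.liftBaseChange_tmul, one_smul]
  exact congrArg Extension.Cotangent.mk (Subtype.ext (form_eq _))

theorem cmp_surjective (hx : Function.Surjective (Fintype.linearCombination A x)) :
    Function.Surjective (cmp x G hG) := by
  intro y
  obtain ⟨⟨p, hp⟩, rfl⟩ := Extension.Cotangent.mk_surjective y
  suffices ∀ q ∈ Ideal.span (Set.range fun k : LinearMap.ker (Fintype.linearCombination A x) =>
      form (k : Fin m → A)), ∀ hq : q ∈ G.toExtension.ker,
      ∃ z, cmp x G hG z = Extension.Cotangent.mk ⟨q, hq⟩ from this p (ker_le x G hG hx hp) hp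
  have hle : Ideal.span (Set.range fun k : LinearMap.ker (Fintype.linearCombination A x) =>
      form (k : Fin m → A)) ≤ G.toExtension.ker := by
    rw [Ideal.span_le]
    rintro _ ⟨k, rfl⟩
    exact form_mem x G hG k
  intro q hq
  induction hq using Submodule.span_induction with
  | mem q hq =>
    obtain ⟨k, rfl⟩ := hq
    intro hq
    exact ⟨1 ⊗ₜ k, by rw [cmp, LinearMap.liftBaseChange_tmul, one_smul]; rfl⟩
  | zero => exact fun _ => ⟨0, by rw [map_zero]; exact (map_zero Extension.Cotangent.mk).symm⟩
  | add a b ha hb iha ihb =>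
    intro _
    obtain ⟨za, hza⟩ := iha (hle ha)
    obtain ⟨zb, hzb⟩ := ihb (hle hb)
    exact ⟨za + zb, by rw [map_add, hza, hzb, ← map_add]; rfl⟩
  | smul c a ha iha =>
    intro _
    obtain ⟨z, hz⟩ := iha (hle ha)
    refine ⟨algebraMap G.toExtension.Ring (SymmetricAlgebra A M) c • z, ?_⟩
    rw [map_smul, hz, algebraMap_smul, ← map_smul]
    rfl

theorem cmp_injective [Module.Projective A M] (hx : Function.Surjective (Fintype.linearCombination A x)) :
    Function.Injective (cmp x G hG) := by
  obtain ⟨s, hs⟩ := Module.projective_lifting_property (Fintype.linearCombination A x) LinearMap.id hx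
  let r : (Fin m → A) →ₗ[A] LinearMap.ker (Fintype.linearCombination A x) :=
    (LinearMap.id - s.comp (Fintype.linearCombination A x)).codRestrict _ fun v => by
      have := LinearMap.congr_fun hs (Fintype.linearCombination A x v)
      simp only [LinearMap.comp_apply, LinearMap.id_apply] at this
      simp [this]
  let b := G.cotangentSpaceBasis
  let ψ := b.constr (SymmetricAlgebra A M) fun j =>
    (1 : SymmetricAlgebra A M) ⊗ₜ[A] r (Pi.single j 1)
  refine Function.Injective.of_comp (f := ψ ∘ G.toExtension.cotangentComplex) ?_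
  suffices h : (ψ.comp (G.toExtension.cotangentComplex.comp (cmp x G hG))) = LinearMap.id from
    fun a c hac => by
      have h1 := LinearMap.congr_fun h a
      have h2 := LinearMap.congr_fun h c
      simp only [LinearMap.comp_apply, LinearMap.id_apply] at h1 h2
      rw [← h1, ← h2]
      exact hac
  refine TensorProduct.AlgebraTensorModule.ext fun t k => ?_
  simp only [LinearMap.comp_apply, cmp, LinearMap.liftBaseChange_tmul, map_smul, LinearMap.id_apply]
  have hd : G.toExtension.cotangentComplex (relMap x G hG k) =
      ∑ j, algebraMap A (SymmetricAlgebra A M) ((k : Fin m → A) j) • b j := by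
    show (1 : SymmetricAlgebra A M) ⊗ₜ[G.Ring] KaehlerDifferential.D A G.Ring (form (k : Fin m → A)) = _
    rw [form, Fintype.linearCombination_apply, map_sum, TensorProduct.tmul_sum]
    refine Finset.sum_congr rfl fun j _ => ?_
    rw [Derivation.map_smul, Generators.cotangentSpaceBasis_apply, TensorProduct.tmul_smul, algebraMap_smul]
  have hk : ∑ j, (k : Fin m → A) j • r (Pi.single j 1) = k := by
    simp only [← map_smul, ← map_sum]
    rw [show ∑ j, (k : Fin m → A) j • Pi.single j (1 : A) = (k : Fin m → A) by
      funext i; simp [Finset.sum_apply, Pi.single_apply]]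
    refine Subtype.ext ?_
    simp [r, LinearMap.mem_ker.1 k.2]
  rw [hd, map_sum]
  simp only [ψ, algebraMap_smul, LinearMap.map_smul_of_tower, Module.Basis.constr_basis, ← TensorProduct.tmul_smul,
    ← TensorProduct.tmul_sum, hk, TensorProduct.smul_tmul', smul_eq_mul, mul_one]

end GrothLib.SymPres6
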